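import Groth.Prelude.Def_WeilRes
import Mathlib.AlgebraicGeometry.Cover.Open
import Mathlib.AlgebraicGeometry.Gluing

/-!
# The universal property of a Weil restriction is local on the test scheme
-/

universe u

open CategoryTheory Limits AlgebraicGeometry

namespace Groth.Agent.H84WeilRes

variable {S S' : Scheme.{u}} {f : S' ⟶ S}

/-- A chart of a test scheme. -/
noncomputable def chart (T : Over S) (i : T.left.affineCover.I₀) : Over.mk (T.left.affineCover.f i ≫ T.hom) ⟶ T :=
  Over.homMk (T.left.affineCover.f i) rfl

theorem hom_ext_chart (T : Over S) {Z : Over S'} {a b : (Over.pullback f).obj T ⟶ Z}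
    (h : ∀ i, (Over.pullback f).map (chart T i) ≫ a = (Over.pullback f).map (chart T i) ≫ b) : a = b := by
  refine Over.OverMorphism.ext
    (Scheme.Cover.hom_ext (T.left.affineCover.pullback₁ (pullback.fst T.hom f)) a.left b.left fun i => ?_)
  let k : pullback (pullback.fst T.hom f) (T.left.affineCover.f i) ⟶ pullback (T.left.affineCover.f i ≫ T.hom) f :=
    pullback.lift (pullback.snd _ _) (pullback.fst _ _ ≫ pullback.snd _ _)
      (by rw [← Category.assoc, ← pullback.condition, Category.assoc, pullback.condition, Category.assoc])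
  have hk : k ≫ ((Over.pullback f).map (chart T i)).left = pullback.fst _ _ := by
    apply pullback.hom_ext
    · simp only [Over.pullback_map_left, Category.assoc]
      erw [pullback.lift_fst, pullback.lift_fst_assoc]
      exact pullback.condition.symm
    · simp only [Over.pullback_map_left, Category.assoc]
      erw [pullback.lift_snd, pullback.lift_snd]
  change pullback.fst _ _ ≫ a.left = pullback.fst _ _ ≫ b.left
  rw [← hk, Category.assoc, Category.assoc]
  exact congrArg (k ≫ ·) (congrArg CommaMorphism.left (h i))

variable {X' : Over S'} {R : Over S} (q : Red.bc f R ⟶ X')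
  (h : ∀ T : Over S, IsAffine T.left → Function.Bijective (WeilRes.restr f q T))

include h in
theorem restr_injective (T : Over S) : Function.Injective (WeilRes.restr f q T) := by
  intro g g' hg
  refine Over.OverMorphism.ext (Scheme.Cover.hom_ext T.left.affineCover g.left g'.left fun i => ?_)
  refine congrArg CommaMorphism.left
    ((h (Over.mk (T.left.affineCover.f i ≫ T.hom)) (inferInstanceAs (IsAffine (T.left.affineCover.X i)))).1
      (a₁ := chart T i ≫ g) (a₂ := chart T i ≫ g') ?_)
  rw [WeilRes.restr_comp, WeilRes.restr_comp, hg]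

include h in
theorem compat (T : Over S) (a : Red.bc f T ⟶ X') (g : ∀ i, Over.mk (T.left.affineCover.f i ≫ T.hom) ⟶ R)
    (hg : ∀ i, WeilRes.restr f q _ (g i) = (Over.pullback f).map (chart T i) ≫ a) (i j : T.left.affineCover.I₀) :
    pullback.fst (T.left.affineCover.f i) (T.left.affineCover.f j) ≫ (g i).left = pullback.snd _ _ ≫ (g j).left := by
  let P : Over S := Over.mk (pullback.fst (T.left.affineCover.f i) (T.left.affineCover.f j) ≫ T.left.affineCover.f i ≫ T.hom)
  let p1 : P ⟶ Over.mk (T.left.affineCover.f i ≫ T.hom) := Over.homMk (pullback.fst _ _) rfl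
  let p2 : P ⟶ Over.mk (T.left.affineCover.f j ≫ T.hom) :=
    Over.homMk (pullback.snd _ _) (pullback.condition_assoc T.hom).symm
  refine congrArg CommaMorphism.left (restr_injective q h P (a₁ := p1 ≫ g i) (a₂ := p2 ≫ g j) ?_)
  rw [WeilRes.restr_comp, WeilRes.restr_comp, hg, hg, ← Category.assoc, ← Category.assoc,
    ← CategoryTheory.Functor.map_comp, ← CategoryTheory.Functor.map_comp]
  have e : p1 ≫ chart T i = p2 ≫ chart T j := Over.OverMorphism.ext pullback.condition
  rw [e]

include h in
/-- It suffices to test the universal property on affine schemes. -/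
theorem isWeilRes_of_affine : WeilRes.IsWeilRes f X' R q := by
  intro T
  refine ⟨restr_injective q h T, fun a => ?_⟩
  choose g hg using fun i => (h (Over.mk (T.left.affineCover.f i ≫ T.hom))
    (inferInstanceAs (IsAffine (T.left.affineCover.X i)))).2 ((Over.pullback f).map (chart T i) ≫ a)
  let G := T.left.affineCover.glueMorphisms (fun i => (g i).left) (compat q h T a g hg)
  have hG : G ≫ R.hom = T.hom := by
    refine Scheme.Cover.hom_ext T.left.affineCover _ _ fun i => ?_
    rw [Scheme.Cover.ι_glueMorphisms_assoc]
    exact Over.w (g i)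
  refine ⟨Over.homMk G hG, hom_ext_chart T fun i => ?_⟩
  rw [← WeilRes.restr_comp, show chart T i ≫ Over.homMk G hG = g i from
    Over.OverMorphism.ext (Scheme.Cover.ι_glueMorphisms _ _ _ i), hg]

end Groth.Agent.H84WeilRes
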