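import Groth.Agent.H84WeilRes.Algebra
import Groth.Agent.H84WeilRes.Local
import Groth.Prelude.Def_WeilRes
import Mathlib.AlgebraicGeometry.Pullbacks
import Mathlib.AlgebraicGeometry.Morphisms.FinitePresentation

/-!
# Weil restriction of affine schemes along a finite projective ring extension
-/

universe u

open CategoryTheory Limits AlgebraicGeometry TensorProduct

namespace Groth.Agent.H84WeilRes

variable (B B' : Type u) [CommRing B] [CommRing B'] [Algebra B B']

/-- The base morphism. -/
noncomputable abbrev fB : Spec (CommRingCat.of B') ⟶ Spec (CommRingCat.of B) :=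
  Spec.map (CommRingCat.ofHom (algebraMap B B'))

/-- An affine scheme over an affine base. -/
noncomputable abbrev spec (D : Type u) [CommRing D] [Algebra B D] : Over (Spec (CommRingCat.of B)) :=
  Over.mk (Spec.map (CommRingCat.ofHom (algebraMap B D)))

/-- Base change of an affine scheme. -/
noncomputable def bcIso (D : Type u) [CommRing D] [Algebra B D] :
    ((Over.pullback (fB B B')).obj (spec B D)).left ≅ Spec (CommRingCat.of (D ⊗[B] B')) :=
  pullbackSpecIso B D B'

variable {B B'}

/-- Morphisms of affine `B`-schemes come from algebra maps. -/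
theorem exists_algHom {D R : Type u} [CommRing D] [Algebra B D] [CommRing R] [Algebra B R]
    (g : spec B D ⟶ spec B R) : ∃ φ : R →ₐ[B] D, g.left = Spec.map (CommRingCat.ofHom φ.toRingHom) := by
  let ψ := Spec.preimage g.left
  have hw : CommRingCat.ofHom (algebraMap B R) ≫ ψ = CommRingCat.ofHom (algebraMap B D) := by
    apply Spec.map_injective
    rw [Spec.map_comp, Spec.map_preimage]
    exact Over.w g
  exact ⟨{ toRingHom := ψ.hom, commutes' := fun b => congrArg (fun h : CommRingCat.of B ⟶ _ => h.hom b) hw },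
    (Spec.map_preimage g.left).symm⟩

/-- The morphism of affine `B`-schemes attached to an algebra map. -/
noncomputable def specMap {D R : Type u} [CommRing D] [Algebra B D] [CommRing R] [Algebra B R] (φ : R →ₐ[B] D) :
    spec B D ⟶ spec B R :=
  Over.homMk (Spec.map (CommRingCat.ofHom φ.toRingHom)) (by
    change Spec.map _ ≫ Spec.map _ = Spec.map _
    rw [← Spec.map_comp]
    exact congrArg Spec.map (CommRingCat.hom_ext (RingHom.ext φ.commutes)))

theorem pullback_map_left {D R : Type u} [CommRing D] [Algebra B D] [CommRing R] [Algebra B R] (φ : R →ₐ[B] D) :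
    ((Over.pullback (fB B B')).map (specMap φ)).left ≫ (bcIso B B' R).hom =
      (bcIso B B' D).hom ≫ Spec.map (CommRingCat.ofHom (tmap φ)) := by
  rw [← cancel_epi (bcIso B B' D).inv, Iso.inv_hom_id_assoc, ← cancel_mono (bcIso B B' R).inv, Category.assoc,
    Category.assoc, Iso.hom_inv_id, Category.comp_id]
  apply pullback.hom_ext
  · simp only [Over.pullback_map_left, Category.assoc, pullback.lift_fst]
    change (pullbackSpecIso B D B').inv ≫ pullback.fst _ _ ≫ Spec.map _ =
      Spec.map _ ≫ (pullbackSpecIso B R B').inv ≫ pullback.fst _ _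
    rw [pullbackSpecIso_inv_fst, pullbackSpecIso_inv_fst_assoc, ← Spec.map_comp, ← Spec.map_comp]
    exact congrArg Spec.map (CommRingCat.hom_ext (RingHom.ext fun r => by simp))
  · simp only [Over.pullback_map_left, Category.assoc, pullback.lift_snd]
    change (pullbackSpecIso B D B').inv ≫ pullback.snd _ _ =
      Spec.map _ ≫ (pullbackSpecIso B R B').inv ≫ pullback.snd _ _
    rw [pullbackSpecIso_inv_snd, pullbackSpecIso_inv_snd, ← Spec.map_comp]
    exact congrArg Spec.map (CommRingCat.hom_ext (RingHom.ext fun r => by simp))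

section Rep

variable {C : Type u} [CommRing C] [Algebra B' C] {R : Type u} [CommRing R] [Algebra B R]

variable (C) in
/-- The target. -/
noncomputable abbrev specC : Over (Spec (CommRingCat.of B')) :=
  Over.mk (Spec.map (CommRingCat.ofHom (algebraMap B' C)))

/-- The morphism attached to a point. -/
noncomputable def pointMor {D : Type u} [CommRing D] [Algebra B D] (y : C →+* D ⊗[B] B') (hy : IsPoint y) :
    (Over.pullback (fB B B')).obj (spec B D) ⟶ specC C :=
  Over.homMk ((bcIso B B' D).hom ≫ Spec.map (CommRingCat.ofHom y)) (by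
    change ((pullbackSpecIso B D B').hom ≫ Spec.map _) ≫ Spec.map _ = pullback.snd _ _
    rw [Category.assoc, ← Spec.map_comp, ← pullbackSpecIso_hom_snd B D B']
    refine congrArg (fun h => (pullbackSpecIso B D B').hom ≫ Spec.map h) (CommRingCat.hom_ext ?_)
    exact hy)

theorem exists_point {D : Type u} [CommRing D] [Algebra B D] (h : (Over.pullback (fB B B')).obj (spec B D) ⟶ specC C) :
    ∃ (y : C →+* D ⊗[B] B') (hy : IsPoint y), h = pointMor y hy := by
  let ψ := Spec.preimage ((bcIso B B' D).inv ≫ h.left)
  have hw : CommRingCat.ofHom (algebraMap B' C) ≫ ψ =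
      CommRingCat.ofHom (Algebra.TensorProduct.includeRight : B' →ₐ[B] D ⊗[B] B').toRingHom := by
    apply Spec.map_injective
    rw [Spec.map_comp, Spec.map_preimage, Category.assoc]
    exact (congrArg (fun t => (bcIso B B' D).inv ≫ t) (Over.w h)).trans (pullbackSpecIso_inv_snd B D B')
  refine ⟨ψ.hom, congrArg CommRingCat.Hom.hom hw, Over.OverMorphism.ext ?_⟩
  change h.left = (bcIso B B' D).hom ≫ Spec.map ψ
  rw [Spec.map_preimage, Iso.hom_inv_id_assoc]

theorem pointMor_injective {D : Type u} [CommRing D] [Algebra B D] {y y' : C →+* D ⊗[B] B'} {hy : IsPoint y}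
    {hy' : IsPoint y'} (h : pointMor y hy = pointMor y' hy') : y = y' := by
  have h1 := congrArg CommaMorphism.left h
  change (bcIso B B' D).hom ≫ _ = (bcIso B B' D).hom ≫ _ at h1
  exact congrArg CommRingCat.Hom.hom (Spec.map_injective ((cancel_epi _).1 h1))

variable (u : C →+* R ⊗[B] B') (hu : IsPoint u)

theorem restr_specMap {D : Type u} [CommRing D] [Algebra B D] (φ : R →ₐ[B] D) :
    WeilRes.restr (fB B B') (pointMor u hu) (spec B D) (specMap φ) = pointMor ((tmap φ).comp u) (hu.map φ) := by
  refine Over.OverMorphism.ext ?_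
  change ((Over.pullback (fB B B')).map (specMap φ)).left ≫ (bcIso B B' R).hom ≫ _ = (bcIso B B' D).hom ≫ _
  rw [← Category.assoc, pullback_map_left, Category.assoc, ← Spec.map_comp]
  rfl

variable (hun : ∀ (D : Type u) [CommRing D] [Algebra B D] (y : C →+* D ⊗[B] B'), IsPoint y →
    ∃! φ : R →ₐ[B] D, (tmap φ).comp u = y)

include hun in
theorem bijective_spec (D : Type u) [CommRing D] [Algebra B D] :
    Function.Bijective (WeilRes.restr (fB B B') (pointMor u hu) (spec B D)) := by
  constructor
  · intro g g' h
    obtain ⟨φ, hφ⟩ := exists_algHom g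
    obtain ⟨φ', hφ'⟩ := exists_algHom g'
    obtain rfl : g = specMap φ := Over.OverMorphism.ext hφ
    obtain rfl : g' = specMap φ' := Over.OverMorphism.ext hφ'
    rw [restr_specMap, restr_specMap] at h
    rw [(hun D _ (hu.map φ')).unique (pointMor_injective h) rfl]
  · intro h
    obtain ⟨y, hy, rfl⟩ := exists_point h
    obtain ⟨φ, hφ, -⟩ := hun D y hy
    refine ⟨specMap φ, ?_⟩
    subst hφ
    exact restr_specMap u hu φ

include hun in
theorem bijective_affine (T : Over (Spec (CommRingCat.of B))) [IsAffine T.left] :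
    Function.Bijective (WeilRes.restr (fB B B') (pointMor u hu) T) := by
  let ψ := Spec.preimage (T.left.isoSpec.inv ≫ T.hom)
  letI : Algebra B Γ(T.left, ⊤) := ψ.hom.toAlgebra
  let e : T ≅ spec B Γ(T.left, ⊤) := Over.isoMk T.left.isoSpec (by
    change T.left.isoSpec.hom ≫ Spec.map ψ = T.hom
    rw [Spec.map_preimage, Iso.hom_inv_id_assoc])
  have h := bijective_spec u hu hun Γ(T.left, ⊤)
  constructor
  · intro g g' hg
    refine (cancel_epi e.inv).1 (h.1 ?_)
    rw [WeilRes.restr_comp, WeilRes.restr_comp, hg]
  · intro a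
    obtain ⟨g, hg⟩ := h.2 ((Over.pullback (fB B B')).map e.inv ≫ a)
    refine ⟨e.hom ≫ g, ?_⟩
    rw [WeilRes.restr_comp, hg, ← Category.assoc, ← CategoryTheory.Functor.map_comp, e.hom_inv_id,
      CategoryTheory.Functor.map_id, Category.id_comp]

include hun in
/-- The affine Weil restriction. -/
theorem isWeilRes : WeilRes.IsWeilRes (fB B B') (specC C) (spec B R) (pointMor u hu) :=
  isWeilRes_of_affine _ fun T _ => bijective_affine u hu hun T

end Rep

variable (B B') in
/-- An affine `B'`-scheme of finite presentation has an affine Weil restriction of finite presentation. -/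
theorem exists_isWeilRes [Module.Finite B B'] [Module.Projective B B']
    (X' : Over (Spec (CommRingCat.of B'))) [IsAffine X'.left] [LocallyOfFinitePresentation X'.hom] :
    ∃ (R : Over (Spec (CommRingCat.of B))) (q : (Over.pullback (fB B B')).obj R ⟶ X'),
      IsAffine R.left ∧ LocallyOfFinitePresentation R.hom ∧ WeilRes.IsWeilRes (fB B B') X' R q := by
  let ψ := Spec.preimage (X'.left.isoSpec.inv ≫ X'.hom)
  letI : Algebra B' Γ(X'.left, ⊤) := ψ.hom.toAlgebra
  let e : X' ≅ specC (B' := B') Γ(X'.left, ⊤) := Over.isoMk X'.left.isoSpec (by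
    change X'.left.isoSpec.hom ≫ Spec.map ψ = X'.hom
    rw [Spec.map_preimage, Iso.hom_inv_id_assoc])
  have : Algebra.FinitePresentation B' Γ(X'.left, ⊤) := by
    have h1 : LocallyOfFinitePresentation (Spec.map ψ) := by
      rw [Spec.map_preimage]; infer_instance
    exact (HasRingHomProperty.Spec_iff (P := @LocallyOfFinitePresentation)).1 h1
  obtain ⟨R, _, _, hR, u, hu, hun⟩ := exists_universal B B' Γ(X'.left, ⊤)
  refine ⟨spec B R, pointMor u hu ≫ e.inv, inferInstanceAs (IsAffine (Spec _)), ?_, fun T => ?_⟩
  · exact (HasRingHomProperty.Spec_iff (P := @LocallyOfFinitePresentation)).2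
      (RingHom.finitePresentation_algebraMap.2 hR)
  · have h := isWeilRes u hu hun T
    constructor
    · intro g g' hg
      refine h.1 ((cancel_mono e.inv).1 ?_)
      simpa [WeilRes.restr, Category.assoc] using hg
    · intro a
      obtain ⟨g, hg⟩ := h.2 (a ≫ e.hom)
      refine ⟨g, ?_⟩
      simp only [WeilRes.restr] at hg ⊢
      rw [← Category.assoc, hg, Category.assoc, e.hom_inv_id, Category.comp_id]

variable (B B') in
/-- An arbitrary affine `B'`-scheme has an affine Weil restriction. -/
theorem exists_isWeilRes' [Module.Finite B B'] [Module.Projective B B']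
    (X' : Over (Spec (CommRingCat.of B'))) [IsAffine X'.left] :
    ∃ (R : Over (Spec (CommRingCat.of B))) (q : (Over.pullback (fB B B')).obj R ⟶ X'),
      IsAffine R.left ∧ WeilRes.IsWeilRes (fB B B') X' R q := by
  let ψ := Spec.preimage (X'.left.isoSpec.inv ≫ X'.hom)
  letI : Algebra B' Γ(X'.left, ⊤) := ψ.hom.toAlgebra
  let e : X' ≅ specC (B' := B') Γ(X'.left, ⊤) := Over.isoMk X'.left.isoSpec (by
    change X'.left.isoSpec.hom ≫ Spec.map ψ = X'.hom
    rw [Spec.map_preimage, Iso.hom_inv_id_assoc])
  obtain ⟨R, _, _, u, hu, hun⟩ := exists_universal' B B' Γ(X'.left, ⊤)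
  refine ⟨spec B R, pointMor u hu ≫ e.inv, inferInstanceAs (IsAffine (Spec _)), fun T => ?_⟩
  have h := isWeilRes u hu hun T
  constructor
  · intro g g' hg
    refine h.1 ((cancel_mono e.inv).1 ?_)
    simpa [WeilRes.restr, Category.assoc] using hg
  · intro a
    obtain ⟨g, hg⟩ := h.2 (a ≫ e.hom)
    refine ⟨g, ?_⟩
    simp only [WeilRes.restr] at hg ⊢
    rw [← Category.assoc, hg, Category.assoc, e.hom_inv_id, Category.comp_id]

end Groth.Agent.H84WeilRes
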