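import Mathlib.RingTheory.FinitePresentation
import Mathlib.RingTheory.TensorProduct.Maps
import Mathlib.Algebra.Module.Projective
import Mathlib.RingTheory.Finiteness.Cardinality

/-!
# Weil restriction of algebras along a finite projective ring extension
-/

universe u

open TensorProduct

namespace Groth.Agent.H84WeilRes

variable {B B' C : Type u} [CommRing B] [CommRing B'] [Algebra B B'] [CommRing C] [Algebra B' C]

variable (B B') in
/-- `b ↦ 1 ⊗ b`, as a ring map. -/
noncomputable def inr (D : Type u) [CommRing D] [Algebra B D] : B' →+* D ⊗[B] B' :=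
  (Algebra.TensorProduct.includeRight : B' →ₐ[B] D ⊗[B] B').toRingHom

@[simp] theorem inr_apply (D : Type u) [CommRing D] [Algebra B D] (b : B') : inr B B' D b = (1 : D) ⊗ₜ[B] b := rfl

/-- Base change of a map of test algebras. -/
noncomputable def tmap {D D₁ : Type u} [CommRing D] [Algebra B D] [CommRing D₁] [Algebra B D₁] (φ : D →ₐ[B] D₁) :
    D ⊗[B] B' →+* D₁ ⊗[B] B' :=
  (Algebra.TensorProduct.map φ (AlgHom.id B B')).toRingHom

@[simp] theorem tmap_tmul {D D₁ : Type u} [CommRing D] [Algebra B D] [CommRing D₁] [Algebra B D₁] (φ : D →ₐ[B] D₁)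
    (d : D) (b : B') : tmap φ (d ⊗ₜ[B] b) = φ d ⊗ₜ[B] b := rfl

theorem tmap_inr {D D₁ : Type u} [CommRing D] [Algebra B D] [CommRing D₁] [Algebra B D₁] (φ : D →ₐ[B] D₁)
    (b : B') : tmap φ (inr B B' D b) = inr B B' D₁ b := by
  rw [inr_apply, tmap_tmul, map_one, inr_apply]

theorem tmap_id {D : Type u} [CommRing D] [Algebra B D] (z : D ⊗[B] B') : tmap (AlgHom.id B D) z = z := by
  induction z using TensorProduct.induction_on with
  | zero => exact map_zero _
  | tmul d b => rfl
  | add x y hx hy => rw [map_add, hx, hy]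

theorem tmap_comp {D D₁ D₂ : Type u} [CommRing D] [Algebra B D] [CommRing D₁] [Algebra B D₁] [CommRing D₂]
    [Algebra B D₂] (φ : D →ₐ[B] D₁) (ψ : D₁ →ₐ[B] D₂) (z : D ⊗[B] B') :
    tmap (ψ.comp φ) z = tmap ψ (tmap φ z) := by
  induction z using TensorProduct.induction_on with
  | zero => simp only [map_zero]
  | tmul d b => rfl
  | add x y hx hy => simp only [map_add, hx, hy]

/-- `y` is a point of `C` with values in `D ⊗[B] B'`, relative to `B'`. -/
def IsPoint {D : Type u} [CommRing D] [Algebra B D] (y : C →+* D ⊗[B] B') : Prop :=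
  y.comp (algebraMap B' C) = inr B B' D

theorem IsPoint.map {D D₁ : Type u} [CommRing D] [Algebra B D] [CommRing D₁] [Algebra B D₁]
    {y : C →+* D ⊗[B] B'} (hy : IsPoint y) (φ : D →ₐ[B] D₁) : IsPoint ((tmap φ).comp y) :=
  RingHom.ext fun b => (congrArg (tmap φ) (RingHom.congr_fun hy b)).trans (tmap_inr φ b)

section Coord

variable {m : ℕ} (σ : B' →ₗ[B] Fin m → B)

/-- Coordinates in `D ⊗ B'`. -/
noncomputable def co (D : Type u) [CommRing D] [Algebra B D] (t : Fin m) : D ⊗[B] B' →ₗ[B] D :=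
  (TensorProduct.rid B D).toLinearMap ∘ₗ ((LinearMap.proj t ∘ₗ σ).lTensor D)

@[simp] theorem co_tmul (D : Type u) [CommRing D] [Algebra B D] (t : Fin m) (d : D) (b : B') :
    co σ D t (d ⊗ₜ[B] b) = σ b t • d := by simp [co]

theorem sum_co {e : Fin m → B'} (hrec : ∀ b, ∑ t, σ b t • e t = b) (D : Type u) [CommRing D] [Algebra B D]
    (z : D ⊗[B] B') : ∑ t, co σ D t z ⊗ₜ[B] e t = z := by
  induction z using TensorProduct.induction_on with
  | zero => simp
  | tmul d b =>
    conv_rhs => rw [← hrec b, TensorProduct.tmul_sum]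
    exact Finset.sum_congr rfl fun t _ => by rw [co_tmul, TensorProduct.smul_tmul]
  | add x y hx hy => simp only [map_add, TensorProduct.add_tmul, Finset.sum_add_distrib, hx, hy]

theorem co_tmap {D D₁ : Type u} [CommRing D] [Algebra B D] [CommRing D₁] [Algebra B D₁] (φ : D →ₐ[B] D₁)
    (t : Fin m) (z : D ⊗[B] B') : co σ D₁ t (tmap φ z) = φ (co σ D t z) := by
  induction z using TensorProduct.induction_on with
  | zero => simp only [map_zero]
  | tmul d b => rw [tmap_tmul, co_tmul, co_tmul, map_smul]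
  | add x y hx hy => simp only [map_add, hx, hy]

end Coord

/-- Evaluation of a polynomial at a tuple of points. -/
noncomputable def ev {ι : Type*} (D : Type u) [CommRing D] [Algebra B D] (y : ι → D ⊗[B] B') :
    MvPolynomial ι B' →+* D ⊗[B] B' :=
  MvPolynomial.eval₂Hom (inr B B' D) y

theorem tmap_ev {ι : Type*} {D D₁ : Type u} [CommRing D] [Algebra B D] [CommRing D₁] [Algebra B D₁] (φ : D →ₐ[B] D₁)
    (y : ι → D ⊗[B] B') (g : MvPolynomial ι B') :
    tmap φ (ev D y g) = ev D₁ (fun i => tmap φ (y i)) g := by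
  refine RingHom.congr_fun (f := (tmap φ).comp (ev D y)) (MvPolynomial.ringHom_ext ?_ ?_) g
  · intro b
    simp only [RingHom.comp_apply, ev, MvPolynomial.eval₂Hom_C, tmap_inr]
  · intro i
    simp only [RingHom.comp_apply, ev, MvPolynomial.eval₂Hom_X']

variable (B B' C) in
/-- The functor `D ↦ Hom_{B'}(C, D ⊗ B')` is corepresentable by a finitely presented `B`-algebra. -/
theorem exists_universal [Module.Finite B B'] [Module.Projective B B'] [Algebra.FinitePresentation B' C] :
    ∃ (R : Type u) (_ : CommRing R) (_ : Algebra B R) (_ : Algebra.FinitePresentation B R)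
      (u : C →+* R ⊗[B] B'), IsPoint u ∧
      ∀ (D : Type u) [CommRing D] [Algebra B D] (y : C →+* D ⊗[B] B'), IsPoint y →
        ∃! φ : R →ₐ[B] D, (tmap φ).comp u = y := by
  classical
  obtain ⟨n, f, hf, s, hs⟩ := Algebra.FinitePresentation.out (R := B') (A := C)
  obtain ⟨m, π, hπ⟩ := Module.Finite.exists_fin' B B'
  obtain ⟨σ, hσ⟩ := Module.projective_lifting_property π LinearMap.id hπ
  let e : Fin m → B' := fun t => π (Pi.single t 1)
  have hrec : ∀ b, ∑ t, σ b t • e t = b := by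
    intro b
    simp only [e, ← map_smul, ← map_sum, ← Pi.single_smul', smul_eq_mul, mul_one]
    rw [Finset.univ_sum_single]
    exact LinearMap.congr_fun hσ b
  let U : Fin n → MvPolynomial (Fin n × Fin m) B ⊗[B] B' := fun i => ∑ t, MvPolynomial.X (i, t) ⊗ₜ[B] e t
  let Q : Set (MvPolynomial (Fin n × Fin m) B) :=
    Set.range (fun x : Fin n × Fin m => co σ _ x.2 (U x.1) - MvPolynomial.X x) ∪
      Set.range (fun x : s × Fin m => co σ _ x.2 (ev _ U x.1.1))
  let I := Ideal.span Q
  have : Algebra.FinitePresentation B (MvPolynomial (Fin n × Fin m) B ⧸ I) :=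
    Algebra.FinitePresentation.quotient
      (Submodule.fg_def.2 ⟨Q, (Set.finite_range _).union (Set.finite_range _), rfl⟩)
  let q : MvPolynomial (Fin n × Fin m) B →ₐ[B] MvPolynomial (Fin n × Fin m) B ⧸ I := Ideal.Quotient.mkₐ B I
  let U' : Fin n → (MvPolynomial (Fin n × Fin m) B ⧸ I) ⊗[B] B' := fun i => tmap q (U i)
  have hker : RingHom.ker f.toRingHom ≤ RingHom.ker (ev _ U') := by
    rw [← hs, Ideal.span_le]
    intro g hg
    change ev _ U' g = 0
    rw [← tmap_ev, ← sum_co σ hrec _ (tmap q (ev _ U g))]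
    refine Finset.sum_eq_zero fun t _ => ?_
    have hz : q (co σ _ t (ev _ U g)) = 0 :=
      Ideal.Quotient.eq_zero_iff_mem.2 (Ideal.subset_span (Or.inr ⟨(⟨g, hg⟩, t), rfl⟩))
    rw [co_tmap, hz, TensorProduct.zero_tmul]
  let u : C →+* (MvPolynomial (Fin n × Fin m) B ⧸ I) ⊗[B] B' :=
    f.toRingHom.liftOfRightInverse (Function.surjInv hf) (Function.rightInverse_surjInv hf) ⟨ev _ U', hker⟩
  have hu : ∀ g, u (f g) = ev _ U' g := fun g =>
    RingHom.liftOfRightInverse_comp_apply f.toRingHom _ _ ⟨ev _ U', hker⟩ g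
  have hfC : ∀ b, algebraMap B' C b = f (MvPolynomial.C b) := fun b => (f.commutes b).symm
  have hup : IsPoint u := RingHom.ext fun b =>
    ((congrArg u (hfC b)).trans (hu _)).trans (MvPolynomial.eval₂Hom_C _ _ b)
  refine ⟨_, inferInstance, inferInstance, this, u, hup, fun D _ _ y hy => ?_⟩
  let Y : Fin n → D ⊗[B] B' := fun i => y (f (MvPolynomial.X i))
  have hY : ∀ g, ev D Y g = y (f g) := fun g => by
    refine RingHom.congr_fun (g := y.comp f.toRingHom) (MvPolynomial.ringHom_ext ?_ ?_) g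
    · intro b
      exact (MvPolynomial.eval₂Hom_C _ _ b).trans (((congrArg y (hfC b)).symm.trans (RingHom.congr_fun hy b)).symm)
    · intro i
      exact MvPolynomial.eval₂Hom_X' _ _ i
  let ψ : MvPolynomial (Fin n × Fin m) B →ₐ[B] D := MvPolynomial.aeval fun x => co σ D x.2 (Y x.1)
  have hψX : ∀ i t, ψ (MvPolynomial.X (i, t)) = co σ D t (Y i) := fun i t => MvPolynomial.aeval_X _ _
  have hψU : ∀ i, tmap ψ (U i) = Y i := by
    intro i
    refine ((map_sum _ _ _).trans (Finset.sum_congr rfl fun t _ => ?_)).trans (sum_co σ hrec D (Y i))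
    rw [tmap_tmul, hψX]
  have hψ : I ≤ RingHom.ker ψ.toRingHom := by
    rw [Ideal.span_le]
    rintro z (⟨⟨i, t⟩, rfl⟩ | ⟨⟨g, t⟩, rfl⟩)
    · change ψ (co σ _ t (U i) - MvPolynomial.X (i, t)) = 0
      rw [map_sub, ← co_tmap, hψU, hψX, sub_self]
    · change ψ (co σ _ t (ev _ U g.1)) = 0
      have h2 : f g.1 = 0 := by
        have h3 : g.1 ∈ RingHom.ker f.toRingHom := hs ▸ Ideal.subset_span g.2
        exact h3
      rw [← co_tmap, tmap_ev, funext hψU, hY, h2, map_zero, map_zero]
  refine ⟨Ideal.Quotient.liftₐ I ψ fun a ha => hψ ha, ?_, fun φ' hφ' => ?_⟩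
  · refine RingHom.ext fun c => ?_
    obtain ⟨g, rfl⟩ := hf c
    rw [RingHom.comp_apply, hu, tmap_ev, ← hY]
    congr 1
    refine congrArg _ (funext fun i => ?_)
    rw [← hψU i, ← tmap_comp]
    rfl
  · refine Ideal.Quotient.algHom_ext B (MvPolynomial.algHom_ext fun ⟨i, t⟩ => ?_)
    refine Eq.trans ?_ (hψX i t).symm
    have hz : q (co σ _ t (U i)) = q (MvPolynomial.X (i, t)) :=
      Ideal.Quotient.eq.2 (Ideal.subset_span (Or.inl ⟨(i, t), rfl⟩))
    change φ' (q (MvPolynomial.X (i, t))) = _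
    rw [← hz, ← co_tmap, ← co_tmap]
    refine congrArg (co σ D t) ?_
    have h1 := RingHom.congr_fun hφ' (f (MvPolynomial.X i))
    rw [RingHom.comp_apply, hu, show ev _ U' (MvPolynomial.X i) = U' i from MvPolynomial.eval₂Hom_X' _ _ i] at h1
    exact h1

variable (B B' C) in
/-- The functor `D ↦ Hom_{B'}(C, D ⊗ B')` is corepresentable, for any `C`. -/
theorem exists_universal' [Module.Finite B B'] [Module.Projective B B'] :
    ∃ (R : Type u) (_ : CommRing R) (_ : Algebra B R)
      (u : C →+* R ⊗[B] B'), IsPoint u ∧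
      ∀ (D : Type u) [CommRing D] [Algebra B D] (y : C →+* D ⊗[B] B'), IsPoint y →
        ∃! φ : R →ₐ[B] D, (tmap φ).comp u = y := by
  classical
  let f : MvPolynomial C B' →ₐ[B'] C := MvPolynomial.aeval id
  have hf : Function.Surjective f := fun c => ⟨MvPolynomial.X c, MvPolynomial.aeval_X _ _⟩
  let s : Set (MvPolynomial C B') := RingHom.ker f.toRingHom
  have hs : Ideal.span s = RingHom.ker f.toRingHom := Ideal.span_eq _
  obtain ⟨m, π, hπ⟩ := Module.Finite.exists_fin' B B'
  obtain ⟨σ, hσ⟩ := Module.projective_lifting_property π LinearMap.id hπ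
  let e : Fin m → B' := fun t => π (Pi.single t 1)
  have hrec : ∀ b, ∑ t, σ b t • e t = b := by
    intro b
    simp only [e, ← map_smul, ← map_sum, ← Pi.single_smul', smul_eq_mul, mul_one]
    rw [Finset.univ_sum_single]
    exact LinearMap.congr_fun hσ b
  let U : C → MvPolynomial (C × Fin m) B ⊗[B] B' := fun i => ∑ t, MvPolynomial.X (i, t) ⊗ₜ[B] e t
  let Q : Set (MvPolynomial (C × Fin m) B) :=
    Set.range (fun x : C × Fin m => co σ _ x.2 (U x.1) - MvPolynomial.X x) ∪
      Set.range (fun x : s × Fin m => co σ _ x.2 (ev _ U x.1.1))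
  let I := Ideal.span Q
  let q : MvPolynomial (C × Fin m) B →ₐ[B] MvPolynomial (C × Fin m) B ⧸ I := Ideal.Quotient.mkₐ B I
  let U' : C → (MvPolynomial (C × Fin m) B ⧸ I) ⊗[B] B' := fun i => tmap q (U i)
  have hker : RingHom.ker f.toRingHom ≤ RingHom.ker (ev _ U') := by
    rw [← hs, Ideal.span_le]
    intro g hg
    change ev _ U' g = 0
    rw [← tmap_ev, ← sum_co σ hrec _ (tmap q (ev _ U g))]
    refine Finset.sum_eq_zero fun t _ => ?_
    have hz : q (co σ _ t (ev _ U g)) = 0 :=
      Ideal.Quotient.eq_zero_iff_mem.2 (Ideal.subset_span (Or.inr ⟨(⟨g, hg⟩, t), rfl⟩))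
    rw [co_tmap, hz, TensorProduct.zero_tmul]
  let u : C →+* (MvPolynomial (C × Fin m) B ⧸ I) ⊗[B] B' :=
    f.toRingHom.liftOfRightInverse (Function.surjInv hf) (Function.rightInverse_surjInv hf) ⟨ev _ U', hker⟩
  have hu : ∀ g, u (f g) = ev _ U' g := fun g =>
    RingHom.liftOfRightInverse_comp_apply f.toRingHom _ _ ⟨ev _ U', hker⟩ g
  have hfC : ∀ b, algebraMap B' C b = f (MvPolynomial.C b) := fun b => (f.commutes b).symm
  have hup : IsPoint u := RingHom.ext fun b =>
    ((congrArg u (hfC b)).trans (hu _)).trans (MvPolynomial.eval₂Hom_C _ _ b)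
  refine ⟨_, inferInstance, inferInstance, u, hup, fun D _ _ y hy => ?_⟩
  let Y : C → D ⊗[B] B' := fun i => y (f (MvPolynomial.X i))
  have hY : ∀ g, ev D Y g = y (f g) := fun g => by
    refine RingHom.congr_fun (g := y.comp f.toRingHom) (MvPolynomial.ringHom_ext ?_ ?_) g
    · intro b
      exact (MvPolynomial.eval₂Hom_C _ _ b).trans (((congrArg y (hfC b)).symm.trans (RingHom.congr_fun hy b)).symm)
    · intro i
      exact MvPolynomial.eval₂Hom_X' _ _ i
  let ψ : MvPolynomial (C × Fin m) B →ₐ[B] D := MvPolynomial.aeval fun x => co σ D x.2 (Y x.1)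
  have hψX : ∀ i t, ψ (MvPolynomial.X (i, t)) = co σ D t (Y i) := fun i t => MvPolynomial.aeval_X _ _
  have hψU : ∀ i, tmap ψ (U i) = Y i := by
    intro i
    refine ((map_sum _ _ _).trans (Finset.sum_congr rfl fun t _ => ?_)).trans (sum_co σ hrec D (Y i))
    rw [tmap_tmul, hψX]
  have hψ : I ≤ RingHom.ker ψ.toRingHom := by
    rw [Ideal.span_le]
    rintro z (⟨⟨i, t⟩, rfl⟩ | ⟨⟨g, t⟩, rfl⟩)
    · change ψ (co σ _ t (U i) - MvPolynomial.X (i, t)) = 0
      rw [map_sub, ← co_tmap, hψU, hψX, sub_self]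
    · change ψ (co σ _ t (ev _ U g.1)) = 0
      have h2 : f g.1 = 0 := by
        have h3 : g.1 ∈ RingHom.ker f.toRingHom := hs ▸ Ideal.subset_span g.2
        exact h3
      rw [← co_tmap, tmap_ev, funext hψU, hY, h2, map_zero, map_zero]
  refine ⟨Ideal.Quotient.liftₐ I ψ fun a ha => hψ ha, ?_, fun φ' hφ' => ?_⟩
  · refine RingHom.ext fun c => ?_
    obtain ⟨g, rfl⟩ := hf c
    rw [RingHom.comp_apply, hu, tmap_ev, ← hY]
    congr 1
    refine congrArg _ (funext fun i => ?_)
    rw [← hψU i, ← tmap_comp]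
    rfl
  · refine Ideal.Quotient.algHom_ext B (MvPolynomial.algHom_ext fun ⟨i, t⟩ => ?_)
    refine Eq.trans ?_ (hψX i t).symm
    have hz : q (co σ _ t (U i)) = q (MvPolynomial.X (i, t)) :=
      Ideal.Quotient.eq.2 (Ideal.subset_span (Or.inl ⟨(i, t), rfl⟩))
    change φ' (q (MvPolynomial.X (i, t))) = _
    rw [← hz, ← co_tmap, ← co_tmap]
    refine congrArg (co σ D t) ?_
    have h1 := RingHom.congr_fun hφ' (f (MvPolynomial.X i))
    rw [RingHom.comp_apply, hu, show ev _ U' (MvPolynomial.X i) = U' i from MvPolynomial.eval₂Hom_X' _ _ i] at h1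
    exact h1

end Groth.Agent.H84WeilRes
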