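import Groth.Agent.H84WeilRes.Local
import Mathlib.AlgebraicGeometry.PullbackCarrier
import Mathlib.AlgebraicGeometry.Morphisms.UniversallyClosed
import Mathlib.CategoryTheory.LocallyDirected

/-!
# Gluing Weil restrictions of open subschemes

If `f` is universally closed and `X'` is covered by opens `U` with representable Weil restriction, finely enough
that every fibre of every `bc T → X'` lands in one of them, then the Weil restriction of `X'` is representable.
-/

universe u

open CategoryTheory Limits AlgebraicGeometry Topology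

namespace Groth.Agent.H84WeilRes

variable {S S' : Scheme.{u}} {f : S' ⟶ S} {X' : Over S'}

theorem map_isPullback {T T' : Over S} (g : T' ⟶ T) :
    IsPullback ((Over.pullback f).map g).left (pullback.fst T'.hom f) (pullback.fst T.hom f) g.left := by
  refine IsPullback.of_right ?_ ?_ (IsPullback.of_hasPullback T.hom f).flip
  · rw [Over.w g, show ((Over.pullback f).map g).left ≫ pullback.snd T.hom f = pullback.snd T'.hom f from
      Over.w ((Over.pullback f).map g)]
    exact (IsPullback.of_hasPullback T'.hom f).flip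
  · exact pullback.lift_fst _ _ _

/-- `(R, q)` represents the points of the Weil restriction of `X'` landing in `U`. -/
structure IsWeilResOn (U : X'.left.Opens) (R : Over S) (q : Red.bc f R ⟶ X') : Prop where
  range_subset : Set.range q.left ⊆ U
  injective : ∀ T : Over S, Function.Injective (WeilRes.restr f q T)
  exists_hit : ∀ (T : Over S) (h : Red.bc f T ⟶ X'), Set.range h.left ⊆ U → ∃ g, WeilRes.restr f q T g = h

theorem range_restr_subset {U : X'.left.Opens} {R : Over S} {q : Red.bc f R ⟶ X'} (hq : IsWeilResOn U R q)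
    {T : Over S} (g : T ⟶ R) : Set.range (WeilRes.restr f q T g).left ⊆ U := by
  rintro _ ⟨z, rfl⟩
  exact hq.range_subset ⟨((Over.pullback f).map g).left z, rfl⟩

/-- The subobject of a test scheme cut out by an open. -/
noncomputable abbrev res (T : Over S) (W : T.left.Opens) : Over S := Over.mk (W.ι ≫ T.hom)

/-- Its inclusion. -/
noncomputable abbrev resι (T : Over S) (W : T.left.Opens) : res T W ⟶ T := Over.homMk W.ι rfl

theorem exists_lift_res {T T' : Over S} (W : T.left.Opens) (g : T' ⟶ T) (hg : Set.range g.left ⊆ W) :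
    ∃ g', g' ≫ resι T W = g := by
  refine ⟨Over.homMk (IsOpenImmersion.lift W.ι g.left (by rw [Scheme.Opens.range_ι]; exact hg)) ?_, ?_⟩
  · change IsOpenImmersion.lift W.ι g.left _ ≫ W.ι ≫ T.hom = T'.hom
    rw [IsOpenImmersion.lift_fac_assoc, Over.w g]
  · exact Over.OverMorphism.ext (IsOpenImmersion.lift_fac _ _ _)

theorem resι_injective {T T' : Over S} (W : T.left.Opens) {a b : T' ⟶ res T W} (h : a ≫ resι T W = b ≫ resι T W) :
    a = b :=
  Over.OverMorphism.ext ((cancel_mono W.ι).1 (congrArg CommaMorphism.left h))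

section Cover

variable {ι' : Type u} {T : Over S} {Ti : ι' → Over S} (j : ∀ i, Ti i ⟶ T)
  [∀ i, IsOpenImmersion (j i).left] (hj : ∀ t, ∃ i y, (j i).left y = t)

/-- The cover of a base change induced by a cover of the test scheme. -/
noncomputable def bcCover : ((Over.pullback f).obj T).left.OpenCover :=
  Scheme.Cover.copy
    ((Scheme.Cover.mkOfCovers (P := @IsOpenImmersion) ι' (fun i => (Ti i).left) (fun i => (j i).left) hj
      (fun _ => inferInstance) : T.left.OpenCover).pullback₁ (pullback.fst T.hom f))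
    ι' (fun i => ((Over.pullback f).obj (Ti i)).left) (fun i => ((Over.pullback f).map (j i)).left)
    (Equiv.refl _) (fun i => (map_isPullback (f := f) (j i)).isoPullback)
    (fun i => (map_isPullback (f := f) (j i)).isoPullback_hom_fst.symm)

include hj in
/-- Morphisms out of a base change are determined on a cover of the test scheme. -/
theorem hom_ext_family {a b : Red.bc f T ⟶ X'}
    (h : ∀ i, (Over.pullback f).map (j i) ≫ a = (Over.pullback f).map (j i) ≫ b) : a = b :=
  Over.OverMorphism.ext (Scheme.Cover.hom_ext (bcCover j hj) a.left b.left fun i => congrArg CommaMorphism.left (h i))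

include hj in
/-- Gluing maps out of a base change along a cover of the test scheme. -/
theorem exists_glue (h : ∀ i, Red.bc f (Ti i) ⟶ X')
    (hc : ∀ (P : Over S) (s t : ι') (a : P ⟶ Ti s) (b : P ⟶ Ti t), a ≫ j s = b ≫ j t →
      (Over.pullback f).map a ≫ h s = (Over.pullback f).map b ≫ h t) :
    ∃ q : Red.bc f T ⟶ X', ∀ i, (Over.pullback f).map (j i) ≫ q = h i := by
  let 𝒱 := bcCover (f := f) j hj
  have compat : ∀ s t, pullback.fst (𝒱.f s) (𝒱.f t) ≫ (h s).left = pullback.snd _ _ ≫ (h t).left := by
    intro s t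
    let Q : Over S := Over.mk (pullback.fst (j s).left (j t).left ≫ (Ti s).hom)
    let a : Q ⟶ Ti s := Over.homMk (pullback.fst _ _) rfl
    let b : Q ⟶ Ti t := Over.homMk (pullback.snd _ _) (by
      change pullback.snd _ _ ≫ (Ti t).hom = pullback.fst _ _ ≫ (Ti s).hom
      rw [← Over.w (j s), ← Over.w (j t), pullback.condition_assoc])
    let z1 : pullback (𝒱.f s) (𝒱.f t) ⟶ ((Over.pullback f).obj (Ti s)).left := pullback.fst (𝒱.f s) (𝒱.f t)
    let z2 : pullback (𝒱.f s) (𝒱.f t) ⟶ ((Over.pullback f).obj (Ti t)).left := pullback.snd (𝒱.f s) (𝒱.f t)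
    have hz : z1 ≫ ((Over.pullback f).map (j s)).left = z2 ≫ ((Over.pullback f).map (j t)).left :=
      pullback.condition
    have hf : ∀ k, ((Over.pullback f).map (j k)).left ≫ pullback.fst T.hom f =
        pullback.fst (Ti k).hom f ≫ (j k).left := fun k => pullback.lift_fst _ _ _
    have hs : ∀ k, ((Over.pullback f).map (j k)).left ≫ pullback.snd T.hom f =
        pullback.snd (Ti k).hom f := fun k => pullback.lift_snd _ _ _
    have hq : (z1 ≫ pullback.fst _ f) ≫ (j s).left = (z2 ≫ pullback.fst _ f) ≫ (j t).left := by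
      rw [Category.assoc, Category.assoc, ← hf, ← hf, reassoc_of% hz]
    have hsnd : z1 ≫ pullback.snd _ f = z2 ≫ pullback.snd _ f := by
      rw [← hs, ← hs, reassoc_of% hz]
    let l : pullback (𝒱.f s) (𝒱.f t) ⟶ ((Over.pullback f).obj Q).left :=
      pullback.lift (pullback.lift (z1 ≫ pullback.fst _ f) (z2 ≫ pullback.fst _ f) hq) (z1 ≫ pullback.snd _ f) (by
        change _ ≫ pullback.fst (j s).left (j t).left ≫ (Ti s).hom = _
        rw [pullback.lift_fst_assoc, Category.assoc, Category.assoc]
        exact congrArg (z1 ≫ ·) pullback.condition)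
    have la : l ≫ ((Over.pullback f).map a).left = z1 := by
      apply pullback.hom_ext
      · rw [Category.assoc]
        erw [pullback.lift_fst]
        rw [← Category.assoc l, pullback.lift_fst]
        exact pullback.lift_fst _ _ _
      · rw [Category.assoc]
        erw [pullback.lift_snd]
        exact pullback.lift_snd _ _ _
    have lb : l ≫ ((Over.pullback f).map b).left = z2 := by
      apply pullback.hom_ext
      · rw [Category.assoc]
        erw [pullback.lift_fst]
        rw [← Category.assoc l, pullback.lift_fst]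
        exact pullback.lift_snd _ _ _
      · rw [Category.assoc]
        erw [pullback.lift_snd]
        exact (pullback.lift_snd _ _ _).trans hsnd
    change z1 ≫ (h s).left = z2 ≫ (h t).left
    rw [← la, ← lb, Category.assoc, Category.assoc]
    exact congrArg (l ≫ ·) (congrArg CommaMorphism.left (hc Q s t a b (Over.OverMorphism.ext pullback.condition)))
  refine ⟨Over.homMk (𝒱.glueMorphisms (fun i => (h i).left) compat) ?_,
    fun i => Over.OverMorphism.ext (Scheme.Cover.ι_glueMorphisms 𝒱 _ compat i)⟩
  refine Scheme.Cover.hom_ext 𝒱 _ _ fun i => ?_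
  rw [Scheme.Cover.ι_glueMorphisms_assoc]
  exact (Over.w (h i)).trans (Over.w ((Over.pullback f).map (j i))).symm

end Cover

instance isOpenImmersion_resι (T : Over S) (W : T.left.Opens) : IsOpenImmersion (resι T W).left :=
  inferInstanceAs (IsOpenImmersion W.ι)

theorem cover_resι {ι' : Type u} {T : Over S} (O : ι' → T.left.Opens) (hO : ∀ t, ∃ i, t ∈ O i) :
    ∀ t, ∃ i y, (resι T (O i)).left y = t := fun t => (hO t).imp fun _ hi => ⟨⟨t, hi⟩, rfl⟩

variable [UniversallyClosed f]

/-- The points of `T` over which `h` lands in `U`. -/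
noncomputable def locus {T : Over S} (h : Red.bc f T ⟶ X') (U : X'.left.Opens) : T.left.Opens :=
  ⟨(⇑(pullback.fst T.hom f) '' (⇑h.left ⁻¹' (U : Set X'.left))ᶜ)ᶜ,
    ((pullback.fst T.hom f).isClosedMap _ (U.isOpen.preimage h.left.continuous).isClosed_compl).isOpen_compl⟩

theorem mem_locus {T : Over S} {h : Red.bc f T ⟶ X'} {U : X'.left.Opens} {t : T.left} :
    t ∈ locus h U ↔ ∀ z, pullback.fst T.hom f z = t → h.left z ∈ U := by
  change t ∈ (⇑(pullback.fst T.hom f) '' (⇑h.left ⁻¹' (U : Set X'.left))ᶜ)ᶜ ↔ _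
  simp only [Set.mem_compl_iff, Set.mem_image, Set.mem_preimage, SetLike.mem_coe, not_exists, not_and]
  exact ⟨fun H z hz => by_contra fun hn => H z hn hz, fun H z hn hz => hn (H z hz)⟩

theorem range_map_subset {T T' : Over S} (g : T' ⟶ T) {h : Red.bc f T ⟶ X'} {U : X'.left.Opens}
    (hg : Set.range g.left ⊆ locus h U) : Set.range ((Over.pullback f).map g ≫ h).left ⊆ U := by
  rintro _ ⟨z, rfl⟩
  refine mem_locus.1 (hg ⟨pullback.fst T'.hom f z, rfl⟩) (((Over.pullback f).map g).left z) ?_
  rw [← Scheme.Hom.comp_apply, ← Scheme.Hom.comp_apply, (map_isPullback g).w]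

theorem range_subset_locus {T T' : Over S} (g : T' ⟶ T) {h : Red.bc f T ⟶ X'} {U : X'.left.Opens}
    (hg : Set.range ((Over.pullback f).map g ≫ h).left ⊆ U) : Set.range g.left ⊆ locus h U := by
  rintro _ ⟨t, rfl⟩
  refine mem_locus.2 fun z hz => ?_
  obtain ⟨z', hz', -⟩ := Scheme.exists_preimage_of_isPullback (map_isPullback (f := f) g) z t hz
  exact hz' ▸ hg ⟨z', rfl⟩

theorem locus_inf {T : Over S} (h : Red.bc f T ⟶ X') (U V : X'.left.Opens) {t : T.left} (h1 : t ∈ locus h U)
    (h2 : t ∈ locus h V) : t ∈ locus h (U ⊓ V) :=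
  mem_locus.2 fun z hz => ⟨mem_locus.1 h1 z hz, mem_locus.1 h2 z hz⟩

theorem isWeilResOn_res {U V : X'.left.Opens} (hVU : V ≤ U) {R : Over S} {q : Red.bc f R ⟶ X'}
    (hq : IsWeilResOn U R q) :
    IsWeilResOn V (res R (locus q V)) ((Over.pullback f).map (resι R (locus q V)) ≫ q) where
  range_subset := range_map_subset _ (Scheme.Opens.range_ι _).le
  injective T g g' h := resι_injective _ (hq.injective T (by
    simpa [WeilRes.restr, Category.assoc] using h))
  exists_hit T h hh := by
    obtain ⟨g, hg⟩ := hq.exists_hit T h (hh.trans hVU)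
    obtain ⟨g', rfl⟩ := exists_lift_res (locus q V) g (range_subset_locus g (by
      change Set.range (WeilRes.restr f q T g).left ⊆ V
      rw [hg]; exact hh))
    exact ⟨g', by simpa [WeilRes.restr, Category.assoc] using hg⟩

/-- The opens with representable Weil restriction. -/
def Idx (f : S' ⟶ S) (X' : Over S') : Type u :=
  { U : X'.left.Opens // ∃ R q, IsWeilResOn (f := f) U R q }

instance : PartialOrder (Idx f X') := inferInstanceAs (PartialOrder { U : X'.left.Opens // _ })

variable (U V : Idx f X')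

/-- The chart. -/
noncomputable def Idx.R : Over S := U.2.choose

/-- Its universal point. -/
noncomputable def Idx.q : Red.bc f U.R ⟶ X' := U.2.choose_spec.choose

theorem Idx.spec : IsWeilResOn U.1 U.R U.q := U.2.choose_spec.choose_spec

/-- The intersection. -/
def Idx.inf : Idx f X' := ⟨U.1 ⊓ V.1, _, _, isWeilResOn_res inf_le_left U.spec⟩

variable {U V}

/-- The transition map. -/
noncomputable def trans (h : U ≤ V) : U.R ⟶ V.R :=
  (V.spec.exists_hit U.R U.q (U.spec.range_subset.trans h)).choose

theorem restr_trans (h : U ≤ V) : WeilRes.restr f V.q U.R (trans h) = U.q :=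
  (V.spec.exists_hit U.R U.q (U.spec.range_subset.trans h)).choose_spec

theorem restr_comp_trans (h : U ≤ V) {T : Over S} (g : T ⟶ U.R) :
    WeilRes.restr f V.q T (g ≫ trans h) = WeilRes.restr f U.q T g := by
  rw [WeilRes.restr_comp, restr_trans, WeilRes.restr_apply]

theorem trans_id : trans (le_refl U) = 𝟙 U.R :=
  U.spec.injective _ (by rw [restr_trans, WeilRes.restr_id])

theorem trans_comp {W : Idx f X'} (h : U ≤ V) (h' : V ≤ W) : trans (h.trans h') = trans h ≫ trans h' :=
  W.spec.injective _ (by rw [restr_trans, restr_comp_trans h', restr_trans])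

theorem trans_eq (h : U ≤ V) :
    ∃ φ : U.R ≅ res V.R (locus V.q U.1), φ.hom ≫ resι V.R (locus V.q U.1) = trans h := by
  have hW := isWeilResOn_res (U := V.1) (V := U.1) h V.spec
  obtain ⟨a, ha⟩ := hW.exists_hit U.R U.q U.spec.range_subset
  obtain ⟨b, hb⟩ := U.spec.exists_hit _ _ hW.range_subset
  refine ⟨⟨a, b, U.spec.injective _ ?_, hW.injective _ ?_⟩, V.spec.injective _ ?_⟩
  · rw [WeilRes.restr_comp, hb, WeilRes.restr_id]
    simpa [WeilRes.restr] using ha
  · rw [WeilRes.restr_comp, ha, WeilRes.restr_id]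
    simpa [WeilRes.restr] using hb
  · rw [restr_trans]
    refine Eq.trans ?_ ha
    simp [WeilRes.restr]

instance isOpenImmersion_trans (h : U ≤ V) : IsOpenImmersion (trans h).left := by
  obtain ⟨φ, hφ⟩ := trans_eq h
  rw [← hφ, Over.comp_left]
  change IsOpenImmersion (φ.hom.left ≫ (locus V.q U.1).ι)
  infer_instance

theorem range_trans (h : U ≤ V) : Set.range (trans h).left = locus V.q U.1 := by
  obtain ⟨φ, hφ⟩ := trans_eq h
  rw [← hφ, Over.comp_left]
  change Set.range ⇑(φ.hom.left ≫ (locus V.q U.1).ι) = _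
  ext r
  constructor
  · rintro ⟨z, rfl⟩
    exact (φ.hom.left z).2
  · intro hr
    obtain ⟨z, hz⟩ := φ.hom.left.surjective (⟨r, hr⟩ : (locus V.q U.1).toScheme)
    exact ⟨z, congrArg Subtype.val hz⟩

variable (f X')

/-- The diagram of charts. -/
noncomputable def diagram : Idx f X' ⥤ Scheme.{u} where
  obj U := U.R.left
  map h := (trans h.le).left
  map_id U := congrArg CommaMorphism.left (trans_id (U := U))
  map_comp a b := congrArg CommaMorphism.left (trans_comp a.le b.le)

instance {i j : Idx f X'} (a : i ⟶ j) : IsOpenImmersion ((diagram f X').map a) :=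
  isOpenImmersion_trans a.le

instance : (diagram f X' ⋙ Scheme.forget).IsLocallyDirected where
  cond {U V W} fi fj xi xj e := by
    let L := U.inf V
    have hU : L ≤ U := inf_le_left (a := U.1) (b := V.1)
    have hV : L ≤ V := inf_le_right (a := U.1) (b := V.1)
    have e' : (trans fi.le).left xi = (trans fj.le).left xj := e
    have hmem : (trans fi.le).left xi ∈ locus W.q L.1 := locus_inf W.q U.1 V.1
      ((range_trans fi.le).le ⟨xi, rfl⟩) (e' ▸ (range_trans fj.le).le ⟨xj, rfl⟩)
    obtain ⟨x, hx⟩ := (range_trans (hU.trans fi.le)).ge hmem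
    refine ⟨L, homOfLE hU, homOfLE hV, x, ?_, ?_⟩
    · refine (trans fi.le).left.isOpenEmbedding.injective ?_
      rw [← hx, trans_comp hU fi.le]
      rfl
    · refine (trans fj.le).left.isOpenEmbedding.injective ?_
      rw [← e', ← hx, show trans (hU.trans fi.le) = trans hV ≫ trans fj.le from
        (trans_comp hV fj.le)]
      rfl

/-- The glued scheme. -/
noncomputable def glued : Over S :=
  Over.mk (colimit.desc (diagram f X')
    { pt := S
      ι := { app := fun U => U.R.hom
             naturality := fun _ _ a => (Over.w (trans a.le)).trans (Category.comp_id _).symm } })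

/-- The charts of the glued scheme. -/
noncomputable def ι (U : Idx f X') : U.R ⟶ glued f X' :=
  Over.homMk (colimit.ι (diagram f X') U) (colimit.ι_desc _ _)

variable {f X'}

theorem trans_ι (h : U ≤ V) : trans h ≫ ι f X' V = ι f X' U :=
  Over.OverMorphism.ext (colimit.w (diagram f X') (homOfLE h))

instance (U : Idx f X') : IsOpenImmersion (ι f X' U).left :=
  inferInstanceAs (IsOpenImmersion (colimit.ι (diagram f X') U))

theorem ι_jointly_surjective (r : (glued f X').left) : ∃ (U : Idx f X') (x : U.R.left), (ι f X' U).left x = r :=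
  Scheme.IsLocallyDirected.ι_jointly_surjective (diagram f X') r

/-- Two factorisations through charts have the same point. -/
theorem restr_eq_of_comp_ι_eq {T : Over S} (a : T ⟶ U.R) (b : T ⟶ V.R) (h : a ≫ ι f X' U = b ≫ ι f X' V) :
    WeilRes.restr f U.q T a = WeilRes.restr f V.q T b := by
  have hT : ∀ t : T.left, ∃ (W : Idx f X') (hU : W ≤ U) (hV : W ≤ V),
      a.left t ∈ Set.range (trans hU).left ∧ b.left t ∈ Set.range (trans hV).left := by
    intro t
    obtain ⟨W, fU, fV, x, hxU, hxV⟩ := (Scheme.IsLocallyDirected.ι_eq_ι_iff (diagram f X') (xi := a.left t)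
      (xj := b.left t)).1 (congrArg (fun m : T ⟶ glued f X' => m.left t) h)
    exact ⟨W, fU.le, fV.le, ⟨x, hxU⟩, ⟨x, hxV⟩⟩
  choose W hU hV haU hbV using hT
  let O : T.left → T.left.Opens := fun t =>
    a.left ⁻¹ᵁ (trans (hU t)).left.opensRange ⊓ b.left ⁻¹ᵁ (trans (hV t)).left.opensRange
  have hO : ∀ t, t ∈ O t := fun t => ⟨haU t, hbV t⟩
  refine hom_ext_family (fun t => resι T (O t)) (cover_resι O fun t => ⟨t, hO t⟩) fun t => ?_
  let j : res T (O t) ⟶ T := resι T (O t)
  change (Over.pullback f).map j ≫ _ = (Over.pullback f).map j ≫ _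
  rw [← WeilRes.restr_comp, ← WeilRes.restr_comp]
  have ha' : Set.range (j ≫ a).left ⊆ Set.range (trans (hU t)).left := by
    rintro _ ⟨z, rfl⟩; exact z.2.1
  have hb' : Set.range (j ≫ b).left ⊆ Set.range (trans (hV t)).left := by
    rintro _ ⟨z, rfl⟩; exact z.2.2
  let a' : res T (O t) ⟶ (W t).R := Over.homMk (IsOpenImmersion.lift (trans (hU t)).left _ ha') (by
    rw [← Over.w (trans (hU t)), IsOpenImmersion.lift_fac_assoc, Over.w])
  let b' : res T (O t) ⟶ (W t).R := Over.homMk (IsOpenImmersion.lift (trans (hV t)).left _ hb') (by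
    rw [← Over.w (trans (hV t)), IsOpenImmersion.lift_fac_assoc, Over.w])
  have ea : a' ≫ trans (hU t) = j ≫ a := Over.OverMorphism.ext (IsOpenImmersion.lift_fac _ _ _)
  have eb : b' ≫ trans (hV t) = j ≫ b := Over.OverMorphism.ext (IsOpenImmersion.lift_fac _ _ _)
  have e1 : a' ≫ ι f X' (W t) = b' ≫ ι f X' (W t) := by
    conv_lhs => rw [← trans_ι (hU t), ← Category.assoc, ea, Category.assoc, h]
    conv_rhs => rw [← trans_ι (hV t), ← Category.assoc, eb, Category.assoc]
  have : a' = b' := Over.OverMorphism.ext ((cancel_mono (ι f X' (W t)).left).1 (congrArg CommaMorphism.left e1))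
  rw [← ea, ← eb, restr_comp_trans, restr_comp_trans, this]

/-- The universal point on the glued scheme. -/
theorem exists_q : ∃ q : Red.bc f (glued f X') ⟶ X', ∀ U, WeilRes.restr f q U.R (ι f X' U) = U.q :=
  exists_glue (fun U => ι f X' U) (fun r => ι_jointly_surjective r) (fun U => U.q)
    fun _ _ _ a b e => restr_eq_of_comp_ι_eq a b e

theorem exists_factor {T : Over S} (g : T ⟶ glued f X') (U : Idx f X')
    (hr : Set.range g.left ⊆ Set.range (ι f X' U).left) : ∃ a, a ≫ ι f X' U = g :=
  ⟨Over.homMk (IsOpenImmersion.lift (ι f X' U).left g.left hr) (by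
    rw [← Over.w (ι f X' U), IsOpenImmersion.lift_fac_assoc, Over.w g]),
    Over.OverMorphism.ext (IsOpenImmersion.lift_fac _ _ _)⟩

theorem injective_glued {q : Red.bc f (glued f X') ⟶ X'}
    (hι : ∀ U, WeilRes.restr f q U.R (ι f X' U) = U.q) (T : Over S) : Function.Injective (WeilRes.restr f q T) := by
  intro g g' hgg
  choose U x hx using fun t => ι_jointly_surjective (g.left t)
  choose V y hy using fun t => ι_jointly_surjective (g'.left t)
  let O : T.left → T.left.Opens := fun t =>
    g.left ⁻¹ᵁ (ι f X' (U t)).left.opensRange ⊓ g'.left ⁻¹ᵁ (ι f X' (V t)).left.opensRange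
  refine Over.OverMorphism.ext (Scheme.hom_ext_of_forall _ _ fun t => ⟨O t, ⟨⟨x t, hx t⟩, ⟨y t, hy t⟩⟩, ?_⟩)
  let j := resι T (O t)
  obtain ⟨a, ha⟩ := exists_factor (j ≫ g) (U t) (by rintro _ ⟨z, rfl⟩; exact z.2.1)
  obtain ⟨b, hb⟩ := exists_factor (j ≫ g') (V t) (by rintro _ ⟨z, rfl⟩; exact z.2.2)
  have e : WeilRes.restr f (U t).q _ a = WeilRes.restr f (V t).q _ b := by
    have e0 : WeilRes.restr f q _ (j ≫ g) = WeilRes.restr f q _ (j ≫ g') := by
      rw [WeilRes.restr_comp, WeilRes.restr_comp, hgg]
    rw [← ha, ← hb, WeilRes.restr_comp, WeilRes.restr_comp, hι, hι] at e0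
    exact e0
  obtain ⟨c, hc⟩ := ((U t).inf (V t)).spec.exists_hit _ (WeilRes.restr f (U t).q _ a)
    (Set.subset_inter (range_restr_subset (U t).spec a) (e ▸ range_restr_subset (V t).spec b))
  have hUle : (U t).inf (V t) ≤ U t := inf_le_left (a := (U t).1) (b := (V t).1)
  have hVle : (U t).inf (V t) ≤ V t := inf_le_right (a := (U t).1) (b := (V t).1)
  have ca : c ≫ trans hUle = a := (U t).spec.injective _ (by rw [restr_comp_trans, hc])
  have cb : c ≫ trans hVle = b := (V t).spec.injective _ (by rw [restr_comp_trans, hc, e])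
  exact congrArg CommaMorphism.left (show j ≫ g = j ≫ g' by
    rw [← ha, ← hb, ← ca, ← cb, Category.assoc, Category.assoc, trans_ι, trans_ι])

/-- Representability by gluing. -/
theorem exists_isWeilRes_of_cover
    (hcov : ∀ (T : Over S) (h : Red.bc f T ⟶ X') (t : T.left), ∃ U : Idx f X', t ∈ locus h U.1) :
    ∃ (R : Over S) (q : Red.bc f R ⟶ X'), WeilRes.IsWeilRes f X' R q := by
  obtain ⟨q, hι⟩ := exists_q (f := f) (X' := X')
  refine ⟨glued f X', q, fun T => ⟨injective_glued hι T, fun h => ?_⟩⟩
  choose U hU using hcov T h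
  let O : T.left → T.left.Opens := fun t => locus h (U t).1
  choose a ha using fun t => (U t).spec.exists_hit (res T (O t))
    ((Over.pullback f).map (resι T (O t)) ≫ h) (range_map_subset _ (Scheme.Opens.range_ι _).le)
  have hga : ∀ t, WeilRes.restr f q _ (a t ≫ ι f X' (U t)) = (Over.pullback f).map (resι T (O t)) ≫ h := by
    intro t
    rw [WeilRes.restr_comp, hι, ← WeilRes.restr_apply, ha]
  let 𝒰 : T.left.OpenCover := Scheme.Cover.mkOfCovers (P := @IsOpenImmersion) T.left (fun t => (res T (O t)).left)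
    (fun t => (resι T (O t)).left) (cover_resι O fun t => ⟨t, hU t⟩) (fun _ => inferInstance)
  have compat : ∀ s t, pullback.fst (𝒰.f s) (𝒰.f t) ≫ (a s ≫ ι f X' (U s)).left =
      pullback.snd _ _ ≫ (a t ≫ ι f X' (U t)).left := by
    intro s t
    let P : Over S := Over.mk (pullback.fst (𝒰.f s) (𝒰.f t) ≫ (res T (O s)).hom)
    let p1 : P ⟶ res T (O s) := Over.homMk (pullback.fst _ _) rfl
    let p2 : P ⟶ res T (O t) := Over.homMk (pullback.snd _ _) (by
      change pullback.snd _ _ ≫ (res T (O t)).hom = pullback.fst _ _ ≫ (res T (O s)).hom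
      exact (pullback.condition_assoc T.hom).symm)
    refine congrArg CommaMorphism.left
      (injective_glued hι P (a₁ := p1 ≫ a s ≫ ι f X' (U s)) (a₂ := p2 ≫ a t ≫ ι f X' (U t)) ?_)
    rw [WeilRes.restr_comp, WeilRes.restr_comp _ _ p2, hga, hga, ← Category.assoc, ← Category.assoc,
      ← CategoryTheory.Functor.map_comp, ← CategoryTheory.Functor.map_comp]
    exact congrArg (fun m => (Over.pullback f).map m ≫ h) (Over.OverMorphism.ext pullback.condition)
  let G := 𝒰.glueMorphisms (fun t => (a t ≫ ι f X' (U t)).left) compat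
  have hG : G ≫ (glued f X').hom = T.hom := by
    refine Scheme.Cover.hom_ext 𝒰 _ _ fun t => ?_
    rw [Scheme.Cover.ι_glueMorphisms_assoc]
    exact Over.w (a t ≫ ι f X' (U t))
  refine ⟨Over.homMk G hG, hom_ext_family (fun t => resι T (O t)) (cover_resι O fun t => ⟨t, hU t⟩) fun t => ?_⟩
  rw [← WeilRes.restr_comp, show resι T (O t) ≫ Over.homMk G hG = a t ≫ ι f X' (U t) from
    Over.OverMorphism.ext (Scheme.Cover.ι_glueMorphisms 𝒰 _ compat t)]
  exact hga t

end Groth.Agent.H84WeilRes
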