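import Groth.Agent.H84WeilRes.Affine
import Groth.Agent.H84WeilRes.Glue
import Mathlib.RingTheory.Flat.EquationalCriterion
import Mathlib.RingTheory.Finiteness.ModuleFinitePresentation
import Mathlib.AlgebraicGeometry.Morphisms.Finite
import Mathlib.AlgebraicGeometry.Morphisms.FinitePresentation

/-!
# Charts of a Weil restriction along a finite locally free surjective morphism
-/

universe u

open CategoryTheory Limits AlgebraicGeometry

namespace Groth.Agent.H84WeilRes

variable {S S' : Scheme.{u}} {f : S' ⟶ S} {X' : Over S'}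

section Square

variable {A A' : Scheme.{u}} {g : A' ⟶ A} {a : A ⟶ S} {a' : A' ⟶ S'} (sq : IsPullback a' g f a)

/-- A test scheme over `A`, over `S`. -/
noncomputable abbrev push (a : A ⟶ S) (T0 : Over A) : Over S := Over.mk (T0.hom ≫ a)

include sq in
theorem isPullback_push (T0 : Over A) :
    IsPullback (pullback.fst T0.hom g) (pullback.snd T0.hom g ≫ a') (push a T0).hom f :=
  IsPullback.paste_vert (IsPullback.of_hasPullback T0.hom g) sq.flip

/-- Comparison of the base changes along `g` and `f`. -/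
noncomputable def theta (T0 : Over A) :
    ((Over.pullback g).obj T0).left ≅ ((Over.pullback f).obj (push a T0)).left :=
  (isPullback_push sq T0).isoPullback

theorem theta_fst (T0 : Over A) :
    (theta sq T0).hom ≫ pullback.fst (push a T0).hom f = pullback.fst T0.hom g :=
  (isPullback_push sq T0).isoPullback_hom_fst

theorem theta_snd (T0 : Over A) :
    (theta sq T0).hom ≫ pullback.snd (push a T0).hom f = pullback.snd T0.hom g ≫ a' :=
  (isPullback_push sq T0).isoPullback_hom_snd

theorem theta_map {T0 R0 : Over A} (g0 : T0 ⟶ R0) (γ : push a T0 ⟶ push a R0) (hγ : γ.left = g0.left) :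
    (theta sq T0).hom ≫ ((Over.pullback f).map γ).left =
      ((Over.pullback g).map g0).left ≫ (theta sq R0).hom := by
  apply pullback.hom_ext
  · rw [Category.assoc, Category.assoc, theta_fst, (map_isPullback (f := f) γ).w, reassoc_of% (theta_fst sq T0),
      (map_isPullback (f := g) g0).w, hγ]
  · rw [Category.assoc, Category.assoc, theta_snd]
    rw [show ((Over.pullback f).map γ).left ≫ pullback.snd (push a R0).hom f = pullback.snd (push a T0).hom f from
        Over.w ((Over.pullback f).map γ), theta_snd, ← Category.assoc,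
      show ((Over.pullback g).map g0).left ≫ pullback.snd R0.hom g = pullback.snd T0.hom g from
        Over.w ((Over.pullback g).map g0)]

variable (U : X'.left.Opens) {X'' : Over A'} (κ : X''.left ≅ (U : Scheme.{u})) (hκ : X''.hom ≫ a' = κ.hom ≫ U.ι ≫ X'.hom)
  {R0 : Over A} {q0 : (Over.pullback g).obj R0 ⟶ X''} (h0 : WeilRes.IsWeilRes g X'' R0 q0)

/-- The universal point of a chart. -/
noncomputable def chartQ : Red.bc f (push a R0) ⟶ X' :=
  Over.homMk ((theta sq R0).inv ≫ q0.left ≫ κ.hom ≫ U.ι) (by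
    rw [Category.assoc, Category.assoc, Category.assoc, ← hκ, ← Category.assoc q0.left, Over.w q0, Iso.inv_comp_eq]
    exact (theta_snd sq R0).symm)

theorem restr_key {T : Over S} {T0 : Over A} (e : push a T0 ≅ T) (g0 : T0 ⟶ R0) (γ : T ⟶ push a R0)
    (hγ : (e.hom ≫ γ).left = g0.left) :
    (theta sq T0).hom ≫ ((Over.pullback f).map e.hom).left ≫
        (WeilRes.restr f (chartQ sq U κ hκ (q0 := q0)) T γ).left =
      (WeilRes.restr g q0 T0 g0).left ≫ κ.hom ≫ U.ι := by
  change (theta sq T0).hom ≫ ((Over.pullback f).map e.hom).left ≫ ((Over.pullback f).map γ).left ≫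
    (theta sq R0).inv ≫ q0.left ≫ κ.hom ≫ U.ι = _
  rw [← Over.comp_left_assoc, ← CategoryTheory.Functor.map_comp, reassoc_of% (theta_map sq g0 _ hγ),
    Iso.hom_inv_id_assoc]
  exact (Category.assoc _ _ _).symm

include sq hκ h0 in
theorem isWeilResOn_chart [Surjective f] [IsOpenImmersion a] [Mono a'] (hUa : ∀ u : (U : Scheme.{u}), X'.hom (U.ι u) ∈ Set.range a') :
    IsWeilResOn U (push a R0) (chartQ sq U κ hκ (q0 := q0)) where
  range_subset := by
    rintro _ ⟨z, rfl⟩
    exact (κ.hom (q0.left ((theta sq R0).inv z))).2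
  injective T γ γ' h := by
    let T0 : Over A := Over.mk (γ.left ≫ R0.hom)
    let e : push a T0 ≅ T := Over.isoMk (Iso.refl _) (by
      change 𝟙 _ ≫ T.hom = (γ.left ≫ R0.hom) ≫ a
      rw [Category.id_comp, Category.assoc, ← Over.w γ]
      rfl)
    have hmono : γ'.left ≫ R0.hom = γ.left ≫ R0.hom := (cancel_mono a).1 (by
      rw [Category.assoc, Category.assoc]
      exact (Over.w γ').trans (Over.w γ).symm)
    let g0 : T0 ⟶ R0 := Over.homMk γ.left rfl
    let g0' : T0 ⟶ R0 := Over.homMk γ'.left hmono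
    have k1 := restr_key sq U κ hκ (q0 := q0) e g0 γ (Category.id_comp _)
    have k2 := restr_key sq U κ hκ (q0 := q0) e g0' γ' (Category.id_comp _)
    rw [h, k2] at k1
    have : g0' = g0 := (h0 T0).1 (Over.OverMorphism.ext ((cancel_mono κ.hom).1 ((cancel_mono U.ι).1 (by
      rw [Category.assoc, Category.assoc]; exact k1))))
    exact Over.OverMorphism.ext (congrArg CommaMorphism.left this).symm
  exists_hit T h hh := by
    have hT : Set.range T.hom ⊆ Set.range a := by
      rintro _ ⟨t, rfl⟩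
      obtain ⟨z, hz⟩ := (pullback.fst T.hom f).surjective t
      obtain ⟨w, hw⟩ := hUa ⟨h.left z, hh ⟨z, rfl⟩⟩
      have hw' : a' w = pullback.snd T.hom f z := hw.trans (congrArg (fun m => m.base z) (Over.w h))
      refine ⟨g w, ?_⟩
      have e1 : f (a' w) = a (g w) := by rw [← Scheme.Hom.comp_apply, sq.w, Scheme.Hom.comp_apply]
      have e2 : f (pullback.snd T.hom f z) = T.hom t := by
        rw [← Scheme.Hom.comp_apply, ← pullback.condition, Scheme.Hom.comp_apply, hz]
      rw [← e1, hw', e2]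
    let T0 : Over A := Over.mk (IsOpenImmersion.lift a T.hom hT)
    let e : push a T0 ≅ T := Over.isoMk (Iso.refl _) (by
      change 𝟙 _ ≫ T.hom = IsOpenImmersion.lift a T.hom hT ≫ a
      rw [Category.id_comp, IsOpenImmersion.lift_fac])
    let m : ((Over.pullback g).obj T0).left ⟶ X'.left := (theta sq T0).hom ≫ ((Over.pullback f).map e.hom).left ≫ h.left
    have hm : Set.range m ⊆ Set.range U.ι := by
      rw [Scheme.Opens.range_ι]
      rintro _ ⟨z, rfl⟩
      exact hh ⟨_, rfl⟩
    let m0 : (Over.pullback g).obj T0 ⟶ X'' := Over.homMk (IsOpenImmersion.lift U.ι m hm ≫ κ.inv) ((cancel_mono a').1 (by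
      simp only [Category.assoc]
      rw [hκ, Iso.inv_hom_id_assoc, IsOpenImmersion.lift_fac_assoc]
      simp only [m, Category.assoc]
      rw [Over.w h, show ((Over.pullback f).map e.hom).left ≫ (Red.bc f T).hom = (Red.bc f (push a T0)).hom from
        Over.w ((Over.pullback f).map e.hom)]
      exact theta_snd sq T0))
    obtain ⟨g0, hg0⟩ := (h0 T0).2 m0
    let γ : T ⟶ push a R0 := e.inv ≫ Over.homMk g0.left (by
      change g0.left ≫ R0.hom ≫ a = T0.hom ≫ a
      rw [← Category.assoc, Over.w g0])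
    refine ⟨γ, Over.OverMorphism.ext ?_⟩
    have k := restr_key sq U κ hκ (q0 := q0) e g0 γ (by simp [γ])
    rw [hg0] at k
    refine (cancel_epi ((Over.pullback f).map e.hom).left).1 ((cancel_epi (theta sq T0).hom).1 (k.trans ?_))
    change (IsOpenImmersion.lift U.ι m hm ≫ κ.inv) ≫ κ.hom ≫ U.ι = m
    rw [Category.assoc, Iso.inv_hom_id_assoc, IsOpenImmersion.lift_fac]

end Square

/-- Over an affine open of the base, an affine open of `X'` has representable Weil restriction. -/
theorem mem_idx [IsFinite f] [Flat f] [LocallyOfFinitePresentation f] [Surjective f] {U : X'.left.Opens}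
    (hU : IsAffineOpen U) {V : S.Opens} (hV : IsAffineOpen V) (hUV : U ≤ (X'.hom ≫ f) ⁻¹ᵁ V) :
    ∃ R q, IsWeilResOn (f := f) U R q := by
  have hW : IsAffineOpen (f ⁻¹ᵁ V) := hV.preimage f
  letI : Algebra Γ(S, V) Γ(S', f ⁻¹ᵁ V) := (f.app V).hom.toAlgebra
  have hfin : Module.Finite Γ(S, V) Γ(S', f ⁻¹ᵁ V) := f.finite_app V hV
  have hflat : Module.Flat Γ(S, V) Γ(S', f ⁻¹ᵁ V) := by
    have := f.flat_appLE hV hW le_rfl
    rwa [Scheme.Hom.appLE_eq_app] at this
  have hfp : Algebra.FinitePresentation Γ(S, V) Γ(S', f ⁻¹ᵁ V) := by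
    have := HasRingHomProperty.appLE @LocallyOfFinitePresentation f inferInstance ⟨V, hV⟩ ⟨f ⁻¹ᵁ V, hW⟩ le_rfl
    rwa [Scheme.Hom.appLE_eq_app] at this
  have : Module.FinitePresentation Γ(S, V) Γ(S', f ⁻¹ᵁ V) := Module.FinitePresentation.of_finite_of_finitePresentation _ _
  have : Module.Projective Γ(S, V) Γ(S', f ⁻¹ᵁ V) := Module.Flat.projective_of_finitePresentation
  have sq : IsPullback hW.fromSpec (fB Γ(S, V) Γ(S', f ⁻¹ᵁ V)) f hV.fromSpec := by
    refine IsPullback.flip (IsOpenImmersion.isPullback _ _ _ _ ?_ ?_)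
    · rw [← IsAffineOpen.SpecMap_appLE_fromSpec f hV hW le_rfl, Scheme.Hom.appLE_eq_app]
      rfl
    · apply TopologicalSpace.Opens.ext
      simp only [Scheme.Hom.coe_opensRange, Scheme.Hom.coe_preimage, IsAffineOpen.range_fromSpec]
      exact congrArg (⇑f ⁻¹' ·) hV.range_fromSpec
  have hr : Set.range (U.ι ≫ X'.hom) ⊆ Set.range hW.fromSpec := by
    rw [IsAffineOpen.range_fromSpec]
    rintro _ ⟨z, rfl⟩
    exact hUV z.2
  let X'' : Over (Spec (CommRingCat.of Γ(S', f ⁻¹ᵁ V))) := Over.mk (IsOpenImmersion.lift hW.fromSpec (U.ι ≫ X'.hom) hr)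
  have : IsAffine X''.left := hU
  obtain ⟨R0, q0, -, h0⟩ := exists_isWeilRes' Γ(S, V) Γ(S', f ⁻¹ᵁ V) X''
  exact ⟨_, _, isWeilResOn_chart sq U (X'' := X'') (Iso.refl _) (by
      change IsOpenImmersion.lift hW.fromSpec (U.ι ≫ X'.hom) hr ≫ hW.fromSpec = 𝟙 _ ≫ U.ι ≫ X'.hom
      rw [IsOpenImmersion.lift_fac, Category.id_comp]) h0 fun z => hr ⟨z, rfl⟩⟩

end Groth.Agent.H84WeilRes
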